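import Groth.Prelude.Def_Found
import Mathlib.RingTheory.Localization.BaseChange
import Mathlib.RingTheory.DedekindDomain.IntegralClosure
import Mathlib.RingTheory.Ideal.GoingDown
import Mathlib.RingTheory.Flat.FaithfullyFlat.Algebra
import Mathlib.RingTheory.Flat.Stability
import Mathlib.RingTheory.Kaehler.Basic
import Mathlib.RingTheory.TensorProduct.Finite
import Mathlib.RingTheory.Spectrum.Prime.Noetherian
import Mathlib.AlgebraicGeometry.Pullbacks
import Mathlib.AlgebraicGeometry.Morphisms.UniversallyInjective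

/-!
# Reduced tensor products with finite subalgebras of a finite field extension
-/

set_option autoImplicit false
universe u

open TensorProduct

namespace RedTensLib

variable {A B K' : Type u} [CommRing A] [IsDomain A] [CommRing B] [Algebra A B] [Field K'] [Algebra A K']
  [Algebra (FractionRing A) K'] [IsScalarTower A (FractionRing A) K'] [FiniteDimensional (FractionRing A) K']

open scoped nonZeroDivisors

omit [FiniteDimensional (FractionRing A) K'] in
theorem algebraMap_injective : Function.Injective (algebraMap A K') := by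
  rw [IsScalarTower.algebraMap_eq A (FractionRing A) K']
  exact (algebraMap (FractionRing A) K').injective.comp (IsFractionRing.injective A (FractionRing A))

variable (A K') in
theorem exists_finite_generating :
    ∃ (s : Finset K'), (∀ x ∈ s, IsIntegral A x) ∧
      ∀ x : K', ∃ (a : A) (c : K'), a ≠ 0 ∧ c ∈ Submodule.span A (s : Set K') ∧ algebraMap A K' a * x = c := by
  classical
  obtain ⟨t, b, hb⟩ := FiniteDimensional.exists_is_basis_integral (A := A) (K := FractionRing A) (L := K')
  refine ⟨Finset.univ.image b, fun x hx => ?_, fun x => ?_⟩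
  · obtain ⟨i, -, rfl⟩ := Finset.mem_image.mp hx
    exact hb i
  · obtain ⟨a, ha⟩ := IsLocalization.exist_integer_multiples_of_finite A⁰ fun i => b.repr x i
    choose c hc using ha
    refine ⟨a, ∑ i, c i • b i, nonZeroDivisors.coe_ne_zero a, Submodule.sum_mem _ fun i _ =>
      Submodule.smul_mem _ _ (Submodule.subset_span (Finset.mem_coe.mpr (Finset.mem_image_of_mem b (Finset.mem_univ i)))), ?_⟩
    conv_lhs => rw [← b.sum_repr x, Finset.mul_sum]
    refine Finset.sum_congr rfl fun i _ => ?_
    rw [← Algebra.smul_def, ← algebraMap_smul (FractionRing A) (a : A) (b.repr x i • b i), smul_smul, ← Algebra.smul_def,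
      ← hc i, algebraMap_smul]

/-- The finite subalgebras with fraction field the whole extension are nonempty. -/
theorem exists_member :
    ∃ C : Subalgebra A K', Module.Finite A C ∧ ∀ x : K', ∃ a b : C, (b : K') ≠ 0 ∧ x * b = a := by
  obtain ⟨s, hs, hx⟩ := exists_finite_generating A K'
  refine ⟨Algebra.adjoin A (s : Set K'), Algebra.finite_adjoin_of_finite_of_isIntegral s.finite_toSet hs,
    fun x => ?_⟩
  obtain ⟨a, c, ha, hc, h⟩ := hx x
  refine ⟨⟨c, (Submodule.span_le.mpr (Algebra.subset_adjoin (R := A)) :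
    Submodule.span A (s : Set K') ≤ (Algebra.adjoin A (s : Set K')).toSubmodule) hc⟩,
    algebraMap A _ a, ?_, ?_⟩
  · simpa using (map_ne_zero_iff _ (algebraMap_injective (K' := K'))).mpr ha
  · simpa [mul_comm] using h

variable [IsNoetherianRing B]

theorem isNoetherianRing_tensor : IsNoetherianRing (B ⊗[A] K') := by
  obtain ⟨s, -, hx⟩ := exists_finite_generating A K'
  haveI : IsNoetherianRing (B ⊗[A] FractionRing A) :=
    IsLocalization.isNoetherianRing (Algebra.algebraMapSubmonoid B A⁰) _ inferInstance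
  let j : B ⊗[A] FractionRing A →ₐ[A] B ⊗[A] K' :=
    Algebra.TensorProduct.map (AlgHom.id A B) (IsScalarTower.toAlgHom A (FractionRing A) K')
  let φ := MvPolynomial.eval₂Hom j.toRingHom fun i : s => (1 : B) ⊗ₜ[A] (i : K')
  refine isNoetherianRing_of_surjective _ _ φ fun z => ?_
  show z ∈ φ.rangeS
  induction z using TensorProduct.induction_on with
  | zero => exact zero_mem _
  | add y z hy hz => exact add_mem hy hz
  | tmul y x =>
    obtain ⟨a, c, ha, hc, h⟩ := hx x
    have ha' : algebraMap A K' a ≠ 0 := (map_ne_zero_iff _ algebraMap_injective).mpr ha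
    have key : ∀ c ∈ Submodule.span A (s : Set K'), ∀ q : FractionRing A,
        y ⊗ₜ[A] (algebraMap (FractionRing A) K' q * c) ∈ φ.rangeS := by
      intro c hc
      induction hc using Submodule.span_induction with
      | mem c hc =>
        intro q
        refine ⟨MvPolynomial.C (y ⊗ₜ[A] q) * MvPolynomial.X ⟨c, hc⟩, ?_⟩
        simp [φ, j]
      | zero => intro q; simp
      | add u v _ _ hu hv => intro q; rw [mul_add, tmul_add]; exact add_mem (hu q) (hv q)
      | smul r u _ hu =>
        intro q
        have := hu (q * algebraMap A (FractionRing A) r)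
        rw [map_mul, ← IsScalarTower.algebraMap_apply, mul_assoc, ← Algebra.smul_def r u] at this
        exact this
    have := key c hc (algebraMap A (FractionRing A) a)⁻¹
    rwa [map_inv₀, ← IsScalarTower.algebraMap_apply, ← h, inv_mul_cancel_left₀ ha'] at this

omit [IsNoetherianRing B] in
theorem nilpotent_sub_comm {R : Type u} [CommRing R] {a b : R} (ha : IsNilpotent a) (hb : IsNilpotent b) :
    IsNilpotent (a - b) := (Commute.all a b).isNilpotent_sub ha hb

variable (hJ : ∀ (q : Ideal B) [q.IsPrime], q ∈ minimalPrimes B → CAlg.IsN2 (B ⧸ q))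
include hJ

/-- The integral elements of the residue field of a minimal prime form a finite module. -/
theorem finite_integralClosure_residue [Module.Flat A B] (P : Ideal (B ⊗[A] K')) [P.IsPrime]
    (hP : P ∈ minimalPrimes (B ⊗[A] K')) :
    Module.Finite B (integralClosure B P.ResidueField) := by
  haveI : Module.Flat A K' := Module.Flat.trans A (FractionRing A) K'
  let q : Ideal B := P.comap (algebraMap B (B ⊗[A] K'))
  have hq : q ∈ minimalPrimes B := by
    refine ⟨⟨inferInstance, bot_le⟩, fun q' hq' hle => ?_⟩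
    haveI := hq'.1
    haveI : P.LiesOver q := ⟨rfl⟩
    obtain ⟨P', hP', hP'p, hP'o⟩ := Ideal.exists_ideal_le_liesOver_of_le (p := q') (q := q) P hle
    exact (le_of_eq (congrArg (Ideal.comap (algebraMap B (B ⊗[A] K')))
      (le_antisymm (hP.2 ⟨hP'p, bot_le⟩ hP') hP'))).trans hP'o.over.ge
  let e : B ⧸ q →+* P.ResidueField := Ideal.Quotient.lift q (algebraMap B P.ResidueField) fun b hb => by
    rw [IsScalarTower.algebraMap_apply B (B ⊗[A] K') P.ResidueField]
    exact Ideal.algebraMap_residueField_eq_zero.mpr hb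
  have he : Function.Injective e := (injective_iff_map_eq_zero e).mpr fun z hz => by
    obtain ⟨b, rfl⟩ := Ideal.Quotient.mk_surjective z
    rw [Ideal.Quotient.lift_mk, IsScalarTower.algebraMap_apply B (B ⊗[A] K') P.ResidueField] at hz
    exact Ideal.Quotient.eq_zero_iff_mem.mpr ((Ideal.algebraMap_residueField_eq_zero (I := P)).mp hz)
  letI := e.toAlgebra
  haveI : IsScalarTower B (B ⧸ q) P.ResidueField := IsScalarTower.of_algebraMap_eq' rfl
  haveI : FaithfulSMul (B ⧸ q) P.ResidueField := (faithfulSMul_iff_algebraMap_injective _ _).mpr he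
  letI : Algebra (FractionRing (B ⧸ q)) P.ResidueField := FractionRing.liftAlgebra _ _
  haveI : IsScalarTower (B ⧸ q) (FractionRing (B ⧸ q)) P.ResidueField := FractionRing.isScalarTower_liftAlgebra _ _
  let π : K' →+* P.ResidueField :=
    (algebraMap (B ⊗[A] K') P.ResidueField).comp Algebra.TensorProduct.includeRight.toRingHom
  have hπA : ∀ a : A, π (algebraMap A K' a) = e (Ideal.Quotient.mk q (algebraMap A B a)) := fun a => by
    show algebraMap _ P.ResidueField ((Algebra.TensorProduct.includeRight : K' →ₐ[A] B ⊗[A] K') (algebraMap A K' a)) =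
      algebraMap B P.ResidueField (algebraMap A B a)
    rw [AlgHom.commutes, IsScalarTower.algebraMap_apply B (B ⊗[A] K') P.ResidueField,
      ← IsScalarTower.algebraMap_apply A B]
  obtain ⟨s, hs, hx⟩ := exists_finite_generating A K'
  let G : IntermediateField (FractionRing (B ⧸ q)) P.ResidueField := IntermediateField.adjoin _ (π '' s)
  have hsG : FiniteDimensional (FractionRing (B ⧸ q)) G := by
    haveI : Finite (π '' (s : Set K') : Set P.ResidueField) := (s.finite_toSet.image π).to_subtype
    refine IntermediateField.finiteDimensional_adjoin fun z hz => ?_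
    obtain ⟨y, hy, rfl⟩ := hz
    refine IsIntegral.tower_top (R := B ⧸ q) ?_
    obtain ⟨p, hp, hpy⟩ := hs y hy
    refine ⟨p.map ((Ideal.Quotient.mk q).comp (algebraMap A B)), hp.map _, ?_⟩
    rw [Polynomial.eval₂_map]
    have := congrArg π hpy
    rw [Polynomial.hom_eval₂, map_zero] at this
    rwa [show π.comp (algebraMap A K') = (algebraMap (B ⧸ q) P.ResidueField).comp
      ((Ideal.Quotient.mk q).comp (algebraMap A B)) from RingHom.ext hπA] at this
  have hB : ∀ b : B, algebraMap B P.ResidueField b ∈ G := fun b => by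
    rw [IsScalarTower.algebraMap_apply B (B ⧸ q) P.ResidueField,
      IsScalarTower.algebraMap_apply (B ⧸ q) (FractionRing (B ⧸ q)) P.ResidueField]
    exact G.algebraMap_mem _
  have hK : ∀ x : K', π x ∈ G := fun x => by
    obtain ⟨a, c, ha, hc, h⟩ := hx x
    have hA : ∀ r : A, π (algebraMap A K' r) ∈ G := fun r => by rw [hπA]; exact hB _
    have key : ∀ c ∈ Submodule.span A (s : Set K'), π c ∈ G := by
      intro c hc
      induction hc using Submodule.span_induction with
      | mem c hc => exact IntermediateField.subset_adjoin _ _ ⟨c, hc, rfl⟩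
      | zero => rw [map_zero]; exact zero_mem _
      | add u v _ _ hu hv => rw [map_add]; exact add_mem hu hv
      | smul r u _ hu => rw [Algebra.smul_def, map_mul]; exact mul_mem (hA r) hu
    have : x = c / algebraMap A K' a := by
      rw [← h, mul_div_cancel_left₀ _ ((map_ne_zero_iff _ algebraMap_injective).mpr ha)]
    rw [this, map_div₀]
    exact div_mem (key c hc) (hA a)
  have hG : G = ⊤ := by
    refine eq_top_iff.mpr fun z _ => ?_
    have hE : ∀ t : B ⊗[A] K', algebraMap _ P.ResidueField t ∈ G := fun t => by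
      induction t using TensorProduct.induction_on with
      | zero => rw [map_zero]; exact zero_mem _
      | add y z hy hz => rw [map_add]; exact add_mem hy hz
      | tmul b x =>
        rw [show b ⊗ₜ[A] x = algebraMap B (B ⊗[A] K') b * (1 ⊗ₜ[A] x) by simp, map_mul,
          ← IsScalarTower.algebraMap_apply]
        exact mul_mem (hB b) (hK x)
    obtain ⟨y, d, -, rfl⟩ := IsFractionRing.div_surjective ((B ⊗[A] K') ⧸ P) z
    obtain ⟨y, rfl⟩ := Ideal.Quotient.mk_surjective y
    obtain ⟨d, rfl⟩ := Ideal.Quotient.mk_surjective d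
    exact div_mem (hE y) (hE d)
  haveI : FiniteDimensional (FractionRing (B ⧸ q)) P.ResidueField := by
    rw [hG] at hsG
    exact LinearEquiv.finiteDimensional (IntermediateField.topEquiv (F := FractionRing (B ⧸ q)) (E := P.ResidueField)).toLinearEquiv
  haveI : Module.Finite (B ⧸ q) (integralClosure (B ⧸ q) P.ResidueField) := hJ q hq P.ResidueField ‹_›
  haveI : Module.Finite B (integralClosure (B ⧸ q) P.ResidueField) := Module.Finite.trans (B ⧸ q) _
  let g : integralClosure B P.ResidueField →ₗ[B] integralClosure (B ⧸ q) P.ResidueField :=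
    { toFun := fun x => ⟨x, x.2.tower_top⟩
      map_add' := fun _ _ => rfl
      map_smul' := fun _ _ => rfl }
  exact Module.Finite.of_injective g fun x y h => Subtype.ext (congrArg Subtype.val h :)

omit hJ

variable (A B K') in
/-- The product of the residue fields at the minimal primes of `B ⊗ K'`. -/
abbrev W : Type u := ∀ P : {P : PrimeSpectrum (B ⊗[A] K') // P.asIdeal ∈ minimalPrimes (B ⊗[A] K')}, P.1.asIdeal.ResidueField

variable (A B K') in
noncomputable def θ : B ⊗[A] K' →ₐ[B] W A B K' :=
  Pi.algHom B _ fun P => IsScalarTower.toAlgHom B (B ⊗[A] K') P.1.asIdeal.ResidueField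

omit [IsDomain A] [Algebra (FractionRing A) K'] [IsScalarTower A (FractionRing A) K']
  [FiniteDimensional (FractionRing A) K'] [IsNoetherianRing B] in
theorem θ_eq_zero_iff (t : B ⊗[A] K') : θ A B K' t = 0 ↔ IsNilpotent t := by
  rw [nilpotent_iff_mem_prime]
  constructor
  · intro h J hJ
    obtain ⟨P, hP, hPJ⟩ := Ideal.exists_minimalPrimes_le (I := ⊥) (J := J) bot_le
    haveI := Ideal.minimalPrimes_isPrime hP
    exact hPJ (Ideal.algebraMap_residueField_eq_zero.mp (congrFun h ⟨⟨P, inferInstance⟩, hP⟩))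
  · exact fun h => funext fun P => Ideal.algebraMap_residueField_eq_zero.mpr (h _ P.1.isPrime)

omit [IsDomain A] [Algebra (FractionRing A) K'] [IsScalarTower A (FractionRing A) K']
  [FiniteDimensional (FractionRing A) K'] [IsNoetherianRing B] in
theorem isNilpotent_of_θ {t : B ⊗[A] K'} (h : IsNilpotent (θ A B K' t)) : θ A B K' t = 0 :=
  h.eq_zero

include hJ in
theorem isNoetherian_integralClosure [Module.Flat A B] : IsNoetherian B (integralClosure B (W A B K')) := by
  haveI := isNoetherianRing_tensor (A := A) (B := B) (K' := K')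
  haveI : Finite {P : PrimeSpectrum (B ⊗[A] K') // P.asIdeal ∈ minimalPrimes (B ⊗[A] K')} := by
    haveI := (minimalPrimes.finite_of_isNoetherianRing (B ⊗[A] K')).to_subtype
    exact Finite.of_injective (fun P => (⟨P.1.asIdeal, P.2⟩ : minimalPrimes (B ⊗[A] K')))
      fun P Q h => Subtype.ext (PrimeSpectrum.ext (congrArg Subtype.val h :))
  haveI : ∀ P : {P : PrimeSpectrum (B ⊗[A] K') // P.asIdeal ∈ minimalPrimes (B ⊗[A] K')},
      IsNoetherian B (integralClosure B P.1.asIdeal.ResidueField) := fun P =>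
    haveI := finite_integralClosure_residue hJ P.1.asIdeal P.2
    inferInstance
  let g : integralClosure B (W A B K') →ₗ[B] ∀ P, integralClosure B
      (P : {P : PrimeSpectrum (B ⊗[A] K') // P.asIdeal ∈ minimalPrimes (B ⊗[A] K')}).1.asIdeal.ResidueField :=
    { toFun := fun x P => ⟨x.1 P, x.2.map (Pi.evalAlgHom B (fun P : {P : PrimeSpectrum (B ⊗[A] K') // P.asIdeal ∈ minimalPrimes (B ⊗[A] K')} => P.1.asIdeal.ResidueField) P)⟩
      map_add' := fun _ _ => rfl
      map_smul' := fun _ _ => rfl }
  exact isNoetherian_of_injective g fun x y h => Subtype.ext (funext fun P => congrArg Subtype.val (congrFun h P))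

omit hJ

/-- The image of `B ⊗ C` in the product of residue fields. -/
noncomputable def ψ (B : Type u) [CommRing B] [Algebra A B] (C : Subalgebra A K') : B ⊗[A] C →ₐ[B] W A B K' :=
  (θ A B K').comp (Algebra.TensorProduct.map (AlgHom.id B B) C.val)

omit [IsDomain A] [Algebra (FractionRing A) K'] [IsScalarTower A (FractionRing A) K']
  [FiniteDimensional (FractionRing A) K'] [IsNoetherianRing B] in
theorem ψ_inclusion {C D : Subalgebra A K'} (h : C ≤ D) (t : B ⊗[A] C) :
    ψ B D (Algebra.TensorProduct.map (AlgHom.id A B) (Subalgebra.inclusion h) t) = ψ B C t := by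
  induction t using TensorProduct.induction_on with
  | zero => simp
  | add y z hy hz => rw [map_add, map_add, map_add, hy, hz]
  | tmul b x => rfl

omit [IsDomain A] [Algebra (FractionRing A) K'] [IsScalarTower A (FractionRing A) K']
  [FiniteDimensional (FractionRing A) K'] [IsNoetherianRing B] in
theorem ψ_eq_zero_iff [Module.Flat A B] (C : Subalgebra A K') (t : B ⊗[A] C) : ψ B C t = 0 ↔ IsNilpotent t := by
  refine Iff.trans (θ_eq_zero_iff _) (IsNilpotent.map_iff ?_)
  exact Module.Flat.lTensor_preserves_injective_linearMap (M := B) C.val.toLinearMap Subtype.val_injective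

include hJ in
theorem exists_max [Module.Flat A B] :
    ∃ Cα : Subalgebra A K', (Module.Finite A Cα ∧ ∀ x : K', ∃ a b : Cα, (b : K') ≠ 0 ∧ x * b = a) ∧
      ∀ C : Subalgebra A K', Module.Finite A C → ∀ hle : Cα ≤ C, ∀ y : B ⊗[A] C, ∃ x : B ⊗[A] Cα,
        IsNilpotent (Algebra.TensorProduct.map (AlgHom.id A B) (Subalgebra.inclusion hle) x - y) := by
  haveI := isNoetherian_integralClosure (A := A) (K' := K') hJ
  have hmem : ∀ C : Subalgebra A K', Module.Finite A C → ∀ t, ψ B C t ∈ integralClosure B (W A B K') :=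
    fun C hC t => (Algebra.IsIntegral.isIntegral (R := B) t).map (ψ B C)
  let S : Subalgebra A K' → Submodule B (integralClosure B (W A B K')) := fun C =>
    (LinearMap.range (ψ B C).toLinearMap).comap (integralClosure B (W A B K')).val.toLinearMap
  let P : Subalgebra A K' → Prop := fun C => Module.Finite A C ∧ ∀ x : K', ∃ a b : C, (b : K') ≠ 0 ∧ x * b = a
  obtain ⟨_, ⟨Cα, hα, rfl⟩, hmax⟩ := WellFounded.has_min (r := (· > ·)) (wellFounded_gt)
    (S '' {C | P C}) (exists_member.elim fun C hC => ⟨_, C, hC, rfl⟩)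
  refine ⟨Cα, hα, fun C hC hle y => ?_⟩
  have hCP : P C := ⟨hC, fun x => by
    obtain ⟨a, b, hb, h⟩ := hα.2 x
    exact ⟨Subalgebra.inclusion hle a, Subalgebra.inclusion hle b, hb, h⟩⟩
  have hS : S Cα ≤ S C := by
    rintro z ⟨t, ht⟩
    exact ⟨_, (ψ_inclusion hle t).trans ht⟩
  have hEq : S C = S Cα := ((eq_or_lt_of_le hS).resolve_right fun hlt => hmax _ ⟨C, hCP, rfl⟩ hlt).symm
  obtain ⟨x, hx⟩ : (⟨ψ B C y, hmem C hC y⟩ : integralClosure B (W A B K')) ∈ S Cα := hEq ▸ ⟨y, rfl⟩
  refine ⟨x, (ψ_eq_zero_iff C _).mp ?_⟩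
  rw [map_sub, ψ_inclusion, sub_eq_zero]
  exact hx

omit hJ

omit [IsDomain A] [Algebra (FractionRing A) K'] [IsScalarTower A (FractionRing A) K']
  [FiniteDimensional (FractionRing A) K'] [IsNoetherianRing B] in
theorem nilpotent_diag [Module.FaithfullyFlat A B] {Cα C : Subalgebra A K'} (hle : Cα ≤ C)
    (hsurj : ∀ y : B ⊗[A] C, ∃ x : B ⊗[A] Cα,
      IsNilpotent (Algebra.TensorProduct.map (AlgHom.id A B) (Subalgebra.inclusion hle) x - y)) (c : C) :
    letI := (Subalgebra.inclusion hle).toRingHom.toAlgebra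
    IsNilpotent ((1 : C) ⊗ₜ[Cα] c - c ⊗ₜ[Cα] (1 : C)) := by
  letI := (Subalgebra.inclusion hle).toRingHom.toAlgebra
  haveI : IsScalarTower A Cα C := IsScalarTower.of_algebraMap_eq fun _ => rfl
  let l : C →ₐ[A] C ⊗[Cα] C := (Algebra.TensorProduct.includeLeft : C →ₐ[A] C ⊗[Cα] C)
  let r : C →ₐ[A] C ⊗[Cα] C := (Algebra.TensorProduct.includeRight : C →ₐ[Cα] C ⊗[Cα] C).restrictScalars A
  let f₁ := Algebra.TensorProduct.map (AlgHom.id A B) l
  let f₂ := Algebra.TensorProduct.map (AlgHom.id A B) r
  obtain ⟨x, hx⟩ := hsurj ((1 : B) ⊗ₜ[A] c)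
  let μ := Algebra.TensorProduct.map (AlgHom.id A B) (Subalgebra.inclusion hle)
  have h12 : ∀ x, f₁ (μ x) = f₂ (μ x) := by
    intro x
    induction x using TensorProduct.induction_on with
    | zero => simp
    | add y z hy hz => rw [map_add, map_add, map_add, hy, hz]
    | tmul b w =>
      show b ⊗ₜ[A] (algebraMap Cα C w ⊗ₜ[Cα] (1 : C)) = b ⊗ₜ[A] ((1 : C) ⊗ₜ[Cα] algebraMap Cα C w)
      rw [Algebra.algebraMap_eq_smul_one, smul_tmul]
  have hz : IsNilpotent ((1 : B) ⊗ₜ[A] ((1 : C) ⊗ₜ[Cα] c - c ⊗ₜ[Cα] (1 : C))) := by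
    have : (1 : B) ⊗ₜ[A] ((1 : C) ⊗ₜ[Cα] c - c ⊗ₜ[Cα] (1 : C)) =
        f₁ (μ x - (1 : B) ⊗ₜ[A] c) - f₂ (μ x - (1 : B) ⊗ₜ[A] c) := by
      rw [map_sub, map_sub, h12 x, sub_sub_sub_cancel_left, tmul_sub]
      rfl
    rw [this]
    exact nilpotent_sub_comm (R := B ⊗[A] (C ⊗[Cα] C)) (hx.map f₁) (hx.map f₂)
  exact (IsNilpotent.map_iff (f := (Algebra.TensorProduct.includeRight : C ⊗[Cα] C →ₐ[A] B ⊗[A] (C ⊗[Cα] C)))
    (Module.FaithfullyFlat.tensorProduct_mk_injective (A := A) (B := B) (C ⊗[Cα] C))).mp hz

open CategoryTheory CategoryTheory.Limits AlgebraicGeometry in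
theorem universallyInjective_of_ker {R S : Type u} [CommRing R] [CommRing S] [Algebra R S]
    (h : ∀ s : S, IsNilpotent ((1 : S) ⊗ₜ[R] s - s ⊗ₜ[R] (1 : S))) :
    UniversallyInjective (Spec.map (CommRingCat.ofHom (algebraMap R S))) := by
  rw [UniversallyInjective.iff_diagonal, diagonal_SpecMap]
  haveI : Surjective (Spec.map (CommRingCat.ofHom (Algebra.TensorProduct.lmul' R : S ⊗[R] S →ₐ[R] S).toRingHom)) := by
    refine ⟨Set.range_eq_univ.mp ?_⟩
    refine (range_comap_of_surjective _ _ fun s => ⟨s ⊗ₜ 1, by simp⟩).trans ?_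
    refine (PrimeSpectrum.zeroLocus_eq_univ_iff _).mpr ?_
    show (KaehlerDifferential.ideal R S : Set (S ⊗[R] S)) ⊆ (nilradical (S ⊗[R] S) : Set (S ⊗[R] S))
    rw [← KaehlerDifferential.span_range_eq_ideal]
    exact Ideal.span_le.mpr (Set.range_subset_iff.mpr h)
  infer_instance

end RedTensLib
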